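import Cfsg.Agent.H2.UniqueSubgroup
import Cfsg.Agent.H86.AutDihedral
import Cfsg.Agent.H86.Sylow
import Cfsg.Agent.H58.AutQ8
import Cfsg.Agent.H10.PSolvable
import Cfsg.Agent.H1.Cores
import Cfsg.Agent.H7.RankGraph
import Cfsg.Agent.H9.PGroup
import Cfsg.Agent.H82.SylowIn

/-!
A subgroup of a 2-constrained group `X` with a central involution that contains `O(X)` and a Sylow
2-subgroup `P` with an elementary abelian subgroup of order 8, and that controls the conjugation of
four-groups inside `P`, is all of `X`.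
-/

set_option autoImplicit false

namespace H9.CoresTrivial

open Subgroup

theorem isPGroup_mulAut_or_q8 {Q : Type*} [Group Q] [Finite Q] (hQ : IsPGroup 2 Q)
    (huniq : ∀ H K : Subgroup Q, Nat.card H = 2 → Nat.card K = 2 → H = K) :
    IsPGroup 2 (MulAut Q) ∨ Nonempty (Q ≃* QuaternionGroup 2) := by
  have hcyc : IsCyclic Q → IsPGroup 2 (MulAut Q) := by
    intro hc
    haveI := Fact.mk Nat.prime_two
    obtain ⟨k, hk⟩ := IsPGroup.iff_card.mp hQ
    rcases Nat.eq_zero_or_pos k with rfl | hk0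
    · exact IsPGroup.of_card (n := 0) (by rw [hc.card_mulAut, hk]; rfl)
    · exact IsPGroup.of_card (n := k - 1)
        (by rw [hc.card_mulAut, hk, Nat.totient_prime_pow Nat.prime_two hk0]; simp)
  rcases H2.cyclic_or_quaternion hQ huniq with hc | ⟨k, ⟨e⟩⟩
  · exact Or.inl (hcyc hc)
  · match k, e with
    | 0, e =>
      refine Or.inl (hcyc ?_)
      haveI : IsCyclic (QuaternionGroup (2 ^ 0)) := QuaternionGroup.quaternionGroup_one_isCyclic
      exact isCyclic_of_surjective e.symm e.symm.surjective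
    | 1, e => exact Or.inr ⟨e⟩
    | j + 2, e => exact Or.inl ((H86.isPGroup_two_mulAut_quaternion (j + 2) (by omega)).of_equiv
        (MulAut.congr e).symm)

variable {X : Type*} [Group X]

theorem mem_centralizer_of_odd {Q : Subgroup X} (hA : IsPGroup 2 (MulAut ↥Q)) {g : X}
    (hg : g ∈ normalizer (Q : Set X)) (ho : Odd (orderOf g)) : g ∈ centralizer (Q : Set X) := by
  have h2 : orderOf (Q.normalizerMonoidHom ⟨g, hg⟩) ∣ orderOf g :=
    (orderOf_map_dvd _ _).trans (by rw [Subgroup.orderOf_mk])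
  obtain ⟨k, hk⟩ := hA (Q.normalizerMonoidHom ⟨g, hg⟩)
  have h1 : Q.normalizerMonoidHom ⟨g, hg⟩ = 1 :=
    orderOf_eq_one_iff.1 (Nat.eq_one_of_dvd_coprimes ((Nat.coprime_two_left.2 ho).pow_left k)
      (orderOf_dvd_of_pow_eq_one hk) h2)
  have h3 : (⟨g, hg⟩ : normalizer (Q : Set X)) ∈ Q.normalizerMonoidHom.ker := h1
  rw [Subgroup.normalizerMonoidHom_ker] at h3
  exact h3

/-- A 2-group with an elementary abelian subgroup of order 8 has no normal quaternion subgroup of
order 8 containing its centralizer. -/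
theorem not_q8 [Finite X] {P Q A : Subgroup X} (hP : IsPGroup 2 P) (hQP : Q ≤ P)
    (hPN : P ≤ normalizer (Q : Set X)) (e : ↥Q ≃* QuaternionGroup 2)
    (hC : P ⊓ centralizer (Q : Set X) ≤ Q) (hA : Cfsg.IsElementaryAbelian 2 A)
    (hA8 : 8 ≤ Nat.card A) (hAP : A ≤ P) : False := by
  haveI := Fact.mk Nat.prime_two
  have hz : Nat.card {q : QuaternionGroup 2 // ∀ y, q * y = y * q} = 2 := by
    rw [Nat.card_eq_fintype_card]; decide
  have hs : Nat.card {q : QuaternionGroup 2 // q * q = 1} = 2 := by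
    rw [Nat.card_eq_fintype_card]; decide
  have hQ8 : Nat.card Q = 8 := by
    rw [Nat.card_congr e.toEquiv, Nat.card_eq_fintype_card, QuaternionGroup.card]
  have hAut : Nat.card (MulAut ↥Q) = 24 := by
    rw [Nat.card_congr (MulAut.congr e).toEquiv, H58.card_mulAut_q8]
  let φ : ↥P →* MulAut ↥Q := Q.normalizerMonoidHom.comp (Subgroup.inclusion hPN)
  have hker : Nat.card φ.ker ≤ 2 := by
    have hmem : ∀ x : φ.ker, ((x : P) : X) ∈ centralizer (Q : Set X) := fun x => by
      have h : Subgroup.inclusion hPN (x : P) ∈ Q.normalizerMonoidHom.ker := x.2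
      rw [Subgroup.normalizerMonoidHom_ker] at h
      exact h
    have hq : ∀ x : φ.ker, ((x : P) : X) ∈ Q := fun x => hC ⟨(x : P).2, hmem x⟩
    let f : φ.ker → {q : QuaternionGroup 2 // ∀ y, q * y = y * q} := fun x =>
      ⟨e ⟨_, hq x⟩, fun y => by
        obtain ⟨y, rfl⟩ := e.surjective y
        rw [← map_mul, ← map_mul]
        exact congrArg e (Subtype.ext (Subgroup.mem_centralizer_iff.1 (hmem x) y y.2).symm)⟩
    refine (Nat.card_le_card_of_injective f fun a b h => ?_).trans hz.le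
    have h' : e ⟨_, hq a⟩ = e ⟨_, hq b⟩ := congrArg Subtype.val h
    exact Subtype.ext (Subtype.ext (congrArg (Subtype.val : Q → X) (e.injective h')))
  have hQA : Nat.card ↥(Q ⊓ A) ≤ 2 := by
    let f : ↥(Q ⊓ A) → {q : QuaternionGroup 2 // q * q = 1} := fun x =>
      ⟨e ⟨x, (Subgroup.mem_inf.1 x.2).1⟩, by
        rw [← map_mul, show (⟨(x : X), (Subgroup.mem_inf.1 x.2).1⟩ : Q) * ⟨x, _⟩ = 1 from
          Subtype.ext (by simpa [pow_two] using hA.2 _ (Subgroup.mem_inf.1 x.2).2), map_one]⟩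
    refine (Nat.card_le_card_of_injective f fun a b h => ?_).trans hs.le
    have h' : e ⟨(a : X), (Subgroup.mem_inf.1 a.2).1⟩ = e ⟨(b : X), (Subgroup.mem_inf.1 b.2).1⟩ :=
      congrArg Subtype.val h
    exact Subtype.ext (congrArg (Subtype.val : Q → X) (e.injective h'))
  have h1 := H82.card_mul_relIndex (inf_le_right : Q ⊓ A ≤ A)
  rw [Subgroup.inf_relIndex_right] at h1
  have h4 : 4 ≤ Q.relIndex A := by
    by_contra hlt
    have : Nat.card ↥(Q ⊓ A) * Q.relIndex A ≤ 2 * 3 := Nat.mul_le_mul hQA (by omega)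
    omega
  have h5 : Q.relIndex A ≤ Q.relIndex P :=
    Subgroup.relIndex_le_of_le_right hAP Subgroup.index_ne_zero_of_finite
  have h6 := H82.card_mul_relIndex hQP
  rw [hQ8] at h6
  have h7 : Nat.card φ.ker * Nat.card φ.range = Nat.card P := by
    rw [← Subgroup.index_ker, Subgroup.card_mul_index]
  obtain ⟨k, hk⟩ := IsPGroup.iff_card.mp
    (hP.of_surjective φ.rangeRestrict φ.rangeRestrict_surjective)
  have h8 : Nat.card φ.range ∣ 24 := hAut ▸ Subgroup.card_subgroup_dvd_card _
  have h16 : 16 ≤ Nat.card φ.range := by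
    by_contra hlt
    have : Nat.card φ.ker * Nat.card φ.range ≤ 2 * 15 := Nat.mul_le_mul hker (by omega)
    omega
  rw [hk] at h8 h16
  have hk4 : 4 ≤ k := by
    by_contra hlt
    have : 2 ^ k ≤ 2 ^ 3 := Nat.pow_le_pow_right two_pos (by omega)
    omega
  have : 2 ^ 4 ∣ 24 := (pow_dvd_pow 2 hk4).trans h8
  norm_num at this

theorem eq_top_of_odd_le [Finite X] (P : Sylow 2 X) (H : Subgroup X) (hPH : (P : Subgroup X) ≤ H)
    (hodd : ∀ g : X, Odd (orderOf g) → g ∈ H) : H = ⊤ := by
  haveI := Fact.mk Nat.prime_two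
  refine Subgroup.index_eq_one.1 (Nat.eq_one_iff_not_exists_prime_dvd.2 fun p hp hd => ?_)
  haveI := Fact.mk hp
  by_cases h2 : p = 2
  · subst h2
    exact P.not_dvd_index (hd.trans (Subgroup.index_dvd_of_le hPH))
  · let R : Sylow p X := default
    have hR : (R : Subgroup X) ≤ H := fun g hg => hodd g (by
      obtain ⟨k, hk⟩ := R.2 ⟨g, hg⟩
      have hk' : g ^ p ^ k = 1 := congrArg Subtype.val hk
      exact ((hp.odd_of_ne_two h2).pow).of_dvd_nat (orderOf_dvd_of_pow_eq_one hk'))
    exact R.not_dvd_index (hd.trans (Subgroup.index_dvd_of_le hR))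

/-- A subgroup containing `O(X)` and a Sylow 2-subgroup with an elementary abelian subgroup of order 8,
and controlling the conjugation of four-groups in that Sylow subgroup, is the whole group. -/
theorem eq_top_of_control [Finite X] (hX : Cfsg.IsPConstrained 2 X) (P : Sylow 2 X) {t : X}
    (ht : orderOf t = 2) (htc : t ∈ Subgroup.center X) {A : Subgroup X}
    (hA : Cfsg.IsElementaryAbelian 2 A) (hA8 : 8 ≤ Nat.card A) (hAP : A ≤ (P : Subgroup X))
    (htA : t ∈ A) (H : Subgroup X) (hO : Cfsg.pPrimeCore 2 X ≤ H) (hPH : (P : Subgroup X) ≤ H)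
    (hKL : ∀ (B : Subgroup X) (g : X), Cfsg.IsElementaryAbelian 2 B → 4 ≤ Nat.card B →
      B ≤ (P : Subgroup X) → B.map (MulAut.conj g).toMonoidHom ≤ (P : Subgroup X) → g ∈ H) :
    H = ⊤ := by
  haveI := Fact.mk Nat.prime_two
  set L := Cfsg.pPrimePCore 2 X with hL
  haveI hLn : L.Normal := H10.pPrimePCore_normal
  obtain ⟨R, hR⟩ := H86.exists_sylow_inf_normal P L
  set Q := (R : Subgroup L).map L.subtype with hQdef
  have hQ : Q = L ⊓ (P : Subgroup X) := by
    rw [hQdef, hR, Subgroup.subgroupOf_map_subtype, inf_comm]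
  have hQP : Q ≤ (P : Subgroup X) := hQ.le.trans inf_le_right
  have hQp : IsPGroup 2 Q := P.2.to_le hQP
  have hPN : (P : Subgroup X) ≤ normalizer (Q : Set X) := by
    intro x hx
    refine H82.mem_normalizer_of_map_le ?_
    rw [hQ]
    refine le_inf ?_ (H82.map_conj_le_of_mem hx inf_le_right)
    rintro _ ⟨y, hy, rfl⟩
    exact hLn.conj_mem y (Subgroup.mem_inf.1 hy).1 x
  have hsup : normalizer (Q : Set X) ⊔ L = ⊤ := Sylow.normalizer_sup_eq_top R
  have hLH : L ≤ H := by
    haveI := H1.pPrimeCore_normal' 2 X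
    have h1 := H10.map_sylow_pPrimePCore R
    intro x hx
    have hx' : QuotientGroup.mk' (Cfsg.pPrimeCore 2 X) x ∈
        Cfsg.pCore 2 (X ⧸ Cfsg.pPrimeCore 2 X) := hx
    rw [← h1] at hx'
    obtain ⟨q, hq, hqx⟩ := hx'
    have h2 : q⁻¹ * x ∈ Cfsg.pPrimeCore 2 X := (QuotientGroup.eq).1 hqx
    have := mul_mem (hPH (hQP hq)) (hO h2)
    rwa [mul_inv_cancel_left] at this
  suffices hN : normalizer (Q : Set X) ≤ H from
    top_le_iff.1 (hsup ▸ sup_le hN hLH)
  have htQ : t ∈ Q := by
    rw [hQ]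
    refine ⟨H10.pCore_le_pPrimePCore ?_, hAP htA⟩
    haveI : (Subgroup.zpowers t).Normal := ⟨fun n hn g => by
      have hc : n ∈ Subgroup.center X := Subgroup.zpowers_le.2 htc hn
      rwa [(Subgroup.mem_center_iff.1 hc g), mul_assoc, mul_inv_cancel, mul_one]⟩
    exact H1.le_pCore (IsPGroup.of_card (n := 1) (by rw [Nat.card_zpowers, ht, pow_one]))
      (Subgroup.mem_zpowers t)
  by_cases hu : ∃ u ∈ Q, orderOf u = 2 ∧ u ≠ t
  · obtain ⟨u, huQ, hu2, hut⟩ := hu
    have ht2 : t ^ 2 = 1 := by rw [← ht]; exact pow_orderOf_eq_one t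
    have hu2' : u ^ 2 = 1 := by rw [← hu2]; exact pow_orderOf_eq_one u
    set B := Subgroup.zpowers t ⊔ Subgroup.zpowers u with hB
    have hBab : Cfsg.IsElementaryAbelian 2 B :=
      H7.isElementaryAbelian_sup (Cfsg.Agent.H9.elemAb_zpowers ht2) (Cfsg.Agent.H9.elemAb_zpowers hu2')
        fun a ha b _ => (Subgroup.mem_center_iff.1 (Subgroup.zpowers_le.2 htc ha) b).symm
    have hBQ : B ≤ Q := sup_le (Subgroup.zpowers_le.2 htQ) (Subgroup.zpowers_le.2 huQ)
    have hB4 : 4 ≤ Nat.card B := by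
      have hlt : Subgroup.zpowers t < B := lt_of_le_of_ne le_sup_left fun e => by
        have hu' : u ∈ Subgroup.zpowers t := e ▸ Subgroup.mem_sup_right (Subgroup.mem_zpowers u)
        classical
        have h := mem_zpowers_iff_mem_range_orderOf.1 hu'
        rw [ht, Finset.mem_image] at h
        obtain ⟨i, hi, rfl⟩ := h
        rw [Finset.mem_range] at hi
        interval_cases i
        · simp at hu2
        · exact hut (pow_one t)
      obtain ⟨c, hc⟩ := Subgroup.card_dvd_of_le hlt.le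
      have hc2 : 2 ≤ c := by
        by_contra h
        have hpos := Nat.card_pos (α := ↥B)
        interval_cases c
        · omega
        · exact hlt.ne (Subgroup.eq_of_le_of_card_ge hlt.le (by rw [hc, mul_one]))
      rw [hc, Nat.card_zpowers, ht]
      omega
    intro g hg
    refine hKL B g hBab hB4 (hBQ.trans hQP) ((Subgroup.map_mono hBQ).trans ?_)
    rw [H82.mem_normalizer_iff_map.1 hg]
    exact hQP
  · push Not at hu
    have huniq : ∀ H K : Subgroup Q, Nat.card H = 2 → Nat.card K = 2 → H = K := by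
      have key : ∀ H : Subgroup Q, Nat.card H = 2 → H = Subgroup.zpowers ⟨t, htQ⟩ := by
        intro H hH
        obtain ⟨x, hx⟩ : ∃ x : H, orderOf x = 2 := exists_prime_orderOf_dvd_card' 2 (by rw [hH])
        have hxt : (x : Q) = ⟨t, htQ⟩ := Subtype.ext (hu _ (x : Q).2 (by
          rw [Subgroup.orderOf_coe, Subgroup.orderOf_coe]; exact hx))
        refine (Subgroup.eq_of_le_of_card_ge (Subgroup.zpowers_le.2 (hxt ▸ x.2)) ?_).symm
        rw [hH, Nat.card_zpowers, ← hxt, Subgroup.orderOf_coe, hx]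
      exact fun H K hH hK => (key H hH).trans (key K hK).symm
    have hCL : centralizer (Q : Set X) ≤ L := hX R
    rcases isPGroup_mulAut_or_q8 hQp huniq with hAut | ⟨⟨e⟩⟩
    · intro g hg
      have h := eq_top_of_odd_le (P.subtype hPN) (H.subgroupOf (normalizer (Q : Set X)))
        (fun x hx => hPH hx) (fun x hx => hLH (hCL (mem_centralizer_of_odd hAut x.2
          (by rwa [Subgroup.coe_subtype, Subgroup.orderOf_coe]))))
      exact Subgroup.subgroupOf_eq_top.1 h hg
    · exact (not_q8 P.2 hQP hPN e ((le_inf (inf_le_right.trans hCL) inf_le_left).trans hQ.ge)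
        hA hA8 hAP).elim

end H9.CoresTrivial
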