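import Cfsg.Agent.H9.CoresTrivial.Main
import Cfsg.Agent.H70.CharTwoEarly
import Cfsg.Agent.H16.OddOrder
import Cfsg.Agent.H7.SFT.Consequences

/-!
The statements on trivial cores (2-constrained 2-locals, solvable involution centralizers), from the
theorem on the core of a strongly embedded subgroup.
-/

set_option autoImplicit false

namespace H9.CoresTrivial

open Subgroup

universe u

variable {G : Type u} [Group G] [Finite G]

/-- A normal abelian subgroup of rank at least 3 gives a normal elementary abelian one of order 8. -/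
theorem exists_normal_elemAb {S : Subgroup G} (A : Subgroup S) (hAn : A.Normal)
    (hAab : IsMulCommutative ↥A) (hA3 : ¬ Cfsg.PRankLE 2 2 ↥A) :
    ∃ U : Subgroup G, U ≤ S ∧ S ≤ normalizer (U : Set G) ∧ Cfsg.IsElementaryAbelian 2 U ∧
      8 ≤ Nat.card U := by
  haveI := Fact.mk Nat.prime_two
  have hcomm : ∀ a ∈ A, ∀ b ∈ A, a * b = b * a := fun a ha b hb =>
    congrArg Subtype.val (hAab.is_comm.comm (⟨a, ha⟩ : A) ⟨b, hb⟩)
  simp only [Cfsg.PRankLE, not_forall, not_le] at hA3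
  obtain ⟨E₀, hEc, hEe, hEcard⟩ := hA3
  let Ω : Subgroup S :=
    { carrier := {a | a ∈ A ∧ a ^ 2 = 1}
      one_mem' := ⟨one_mem A, one_pow 2⟩
      mul_mem' := fun {a b} ha hb => ⟨mul_mem ha.1 hb.1, by
        rw [(show Commute a b from hcomm a ha.1 b hb.1).mul_pow, ha.2, hb.2, one_mul]⟩
      inv_mem' := fun {a} ha => ⟨inv_mem ha.1, by rw [inv_pow, ha.2, inv_one]⟩ }
  haveI : Ω.Normal := ⟨fun a ha g => ⟨hAn.conj_mem a ha.1 g, by
    rw [conj_pow, ha.2, mul_one, mul_inv_cancel]⟩⟩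
  refine ⟨Ω.map S.subtype, Subgroup.map_subtype_le _, ?_, ?_, ?_⟩
  · intro s hs
    refine H82.mem_normalizer_of_map_le ?_
    rintro _ ⟨_, ⟨a, ha, rfl⟩, rfl⟩
    exact ⟨(⟨s, hs⟩ : S) * a * (⟨s, hs⟩ : S)⁻¹, Subgroup.Normal.conj_mem ‹_› a ha _, rfl⟩
  · refine H7.isElementaryAbelian_of_comm ?_ ?_
    · rintro _ ⟨a, ha, rfl⟩ _ ⟨b, hb, rfl⟩
      rw [← map_mul, ← map_mul, hcomm a ha.1 b hb.1]
    · rintro _ ⟨a, ha, rfl⟩
      rw [← map_pow, ha.2, map_one]
  · rw [Cfsg.Comp.card_map_subtype]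
    obtain ⟨k, hk⟩ := IsPGroup.iff_card.mp
      (show IsPGroup 2 E₀ from fun x => ⟨1, Subtype.ext (by simpa using hEe x x.2)⟩)
    have hle : E₀.map A.subtype ≤ Ω := by
      rintro _ ⟨a, ha, rfl⟩
      exact ⟨a.2, congrArg Subtype.val (hEe a ha)⟩
    refine le_trans ?_ (Subgroup.card_le_of_le hle)
    rw [Cfsg.Comp.card_map_subtype, hk]
    rw [hk] at hEcard
    exact Nat.pow_le_pow_right (n := 2) two_pos (i := 3)
      ((Nat.pow_lt_pow_iff_right one_lt_two).1 hEcard)

/-- S3109 from S1221. -/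
theorem shape3109 [IsSimpleGroup G] (hG : ¬ IsMulCommutative G)
    (h1221 : ∀ (X : Type u) [Group X] [Finite X] (H : Subgroup X), Cfsg.IsStronglyEmbedded H →
      (Cfsg.oddCore ↥H).map H.subtype ≤ Cfsg.oddCore X)
    (h2c : ∀ T : Subgroup G, IsPGroup 2 T → T ≠ ⊥ →
      Cfsg.IsPConstrained 2 ↥(normalizer (T : Set G)))
    (S : Sylow 2 G) (A : Subgroup ↥(S : Subgroup G)) (hAn : A.Normal) (hAab : IsMulCommutative ↥A)
    (hA3 : ¬ Cfsg.PRankLE 2 2 ↥A) :
    ∀ t : G, orderOf t = 2 → Cfsg.centralizerPPrimeCore 2 t = ⊥ := by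
  haveI := Fact.mk Nat.prime_two
  obtain ⟨U, hUS, hSU, hU, h8⟩ := exists_normal_elemAb A hAn hAab hA3
  have hcons : ∀ z : G, orderOf z = 2 → Cfsg.IsPConstrained 2 ↥(centralizer ({z} : Set G)) :=
    fun z hz => by
      have h := h2c (Subgroup.zpowers z)
        (H7.isPGroup_zpowers (by rw [← hz]; exact pow_orderOf_eq_one z)) fun e => by
          rw [Subgroup.zpowers_eq_bot] at e
          simp [e] at hz
      rw [H70.CharTwoEarly.normalizer_zpowers_eq hz] at h
      exact h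
  have hO : Cfsg.oddCore G = ⊥ := by
    rcases (H1.pPrimeCore_normal' 2 G).eq_bot_or_eq_top with h | h
    · exact h
    exfalso
    have hc := H1.card_pPrimeCore_coprime 2 G
    have hU2 : Nat.card U ∣ Nat.card G := Subgroup.card_subgroup_dvd_card U
    change Cfsg.pPrimeCore 2 G = ⊤ at h
    rw [h, Subgroup.card_top, Nat.coprime_two_right] at hc
    obtain ⟨k, hk⟩ := IsPGroup.iff_card.mp (H7.elemAb_isPGroup hU)
    rcases k with _ | k
    · rw [hk] at h8; simp at h8
    · have h2 : (2 : ℕ) ∣ Nat.card G := by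
        refine dvd_trans ?_ hU2
        rw [hk, pow_succ']
        exact dvd_mul_right 2 _
      exact Nat.not_even_iff_odd.2 hc (even_iff_two_dvd.2 h2)
  exact cores_trivial H16.FT.oddOrderSolvable (fun θ => H7.SFT.completeSolvableFunctors θ) h1221 hcons
    hO S hUS hSU hU h8

/-- S3332 from S1221. -/
theorem shape3332
    (h1221 : ∀ (X : Type u) [Group X] [Finite X] (H : Subgroup X), Cfsg.IsStronglyEmbedded H →
      (Cfsg.oddCore ↥H).map H.subtype ≤ Cfsg.oddCore X)
    (hO : Cfsg.oddCore G = ⊥) (S : Sylow 2 G) (A : Subgroup G) (hAS : A ≤ S)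
    (hAn : (A.subgroupOf S).Normal) (hAc : IsMulCommutative A) (hA3 : ¬ Cfsg.PRankLE 2 2 A)
    (hsol : ∀ t : G, orderOf t = 2 → Group.IsSolvable (centralizer ({t} : Set G))) :
    ∀ t : G, orderOf t = 2 → Cfsg.oddCore (centralizer ({t} : Set G)) = ⊥ := by
  haveI := Fact.mk Nat.prime_two
  have hcomm : IsMulCommutative ↥(A.subgroupOf S) := ⟨⟨fun a b => Subtype.ext (Subtype.ext
    (congrArg (Subtype.val : A → G) (hAc.is_comm.comm (⟨_, a.2⟩ : A) ⟨_, b.2⟩)))⟩⟩
  have h3 : ¬ Cfsg.PRankLE 2 2 ↥(A.subgroupOf (S : Subgroup G)) := by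
    intro h
    refine hA3 fun E hE hEe => ?_
    let e := Subgroup.subgroupOfEquivOfLe hAS
    have hc := hE.is_comm.comm
    have := h (E.map e.symm.toMonoidHom) ⟨⟨?_⟩⟩ ?_
    · rwa [Subgroup.card_map_of_injective e.symm.injective] at this
    · rintro ⟨_, x, hx, rfl⟩ ⟨_, y, hy, rfl⟩
      exact Subtype.ext (by
        show e.symm x * e.symm y = e.symm y * e.symm x
        rw [← map_mul, ← map_mul]
        exact congrArg e.symm (congrArg Subtype.val (hc ⟨x, hx⟩ ⟨y, hy⟩)))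
    · rintro _ ⟨x, hx, rfl⟩
      rw [← map_pow, hEe x hx, map_one]
  obtain ⟨U, hUS, hSU, hU, h8⟩ := exists_normal_elemAb _ hAn hcomm h3
  have hcons : ∀ z : G, orderOf z = 2 → Cfsg.IsPConstrained 2 ↥(centralizer ({z} : Set G)) :=
    fun z hz => by
      haveI := hsol z hz
      exact H10.isPConstrained_of_isPSolvable (H10.isPSolvable_of_isSolvable)
  intro t ht
  have h := cores_trivial H16.FT.oddOrderSolvable (fun θ => H7.SFT.completeSolvableFunctors θ) h1221
    hcons hO S hUS hSU hU h8 t ht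
  exact (Subgroup.map_eq_bot_iff_of_injective _ (Subgroup.subtype_injective _)).1 h

end H9.CoresTrivial
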