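import Cfsg.Agent.H80.SigCore
import Cfsg.Agent.H65.StronglyEmbedded
import Cfsg.Agent.H9.CoresTrivial.Centralizer
import Cfsg.Prelude.Def_Involutions
import Cfsg.Prelude.Def_CaseTheorems

/-!
Trivial cores of involution centralizers in a core-free group with 2-constrained involution centralizers
and a Sylow 2-subgroup normalising an elementary abelian group of order 8, from the theorem that the
core of a strongly embedded subgroup lies in the core of the group.
-/

set_option autoImplicit false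

namespace H9.CoresTrivial

open Subgroup

universe u

variable {G : Type u} [Group G] [Finite G]

theorem not_pRankLE_one {B : Subgroup G} (hB : Cfsg.IsElementaryAbelian 2 B) (h4 : 4 ≤ Nat.card B) :
    ¬ Cfsg.PRankLE 2 1 ↥B :=
  Cfsg.Agent.H9.not_pRankLE_of_elemAb hB le_rfl (by rw [pow_one]; omega)

theorem exists_elemAb_in {S U : Subgroup G} (hUS : U ≤ S) (hSU : S ≤ normalizer (U : Set G))
    (hU : Cfsg.IsElementaryAbelian 2 U) (h8 : 8 ≤ Nat.card U) {x : G} (hxS : x ∈ S)
    (hx : orderOf x = 2) :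
    ∃ A : Subgroup G, Cfsg.IsElementaryAbelian 2 A ∧ 8 ≤ Nat.card A ∧ x ∈ A ∧ A ≤ S := by
  have hU' : Cfsg.IsElementaryAbelian 2 (U.subgroupOf S) := H7.isElementaryAbelian_of_comm
    (fun a ha b hb => Subtype.ext (H7.comm_of_isElementaryAbelian hU a ha b hb))
    fun a ha => Subtype.ext (hU.2 a ha)
  obtain ⟨A, hA, hA8, hxA, -⟩ := H80.exists_elemAb_eight hU'
    (by rw [Cfsg.Comp.card_subgroupOf hUS]; exact h8) (x := (⟨x, hxS⟩ : S))
    (by rw [Subgroup.orderOf_mk]; exact hx)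
    (by
      haveI := Subgroup.normal_subgroupOf_of_le_normalizer hSU
      rw [Subgroup.normalizer_eq_top]
      exact Subgroup.mem_top _)
  refine ⟨A.map S.subtype, Cfsg.Agent.H9.elemAb_map _ hA, ?_, ⟨_, hxA, rfl⟩, Subgroup.map_subtype_le _⟩
  rw [Cfsg.Comp.card_map_subtype]
  exact hA8

theorem centralizerPPrimeCore_conj_eq_bot {x : G} (g : G)
    (h : Cfsg.centralizerPPrimeCore 2 x = ⊥) : Cfsg.centralizerPPrimeCore 2 (g * x * g⁻¹) = ⊥ := by
  rw [H7.centralizerPPrimeCore_conj_eq, h, Subgroup.map_bot]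

theorem orderOf_conj (g x : G) : orderOf (g * x * g⁻¹) = orderOf x :=
  MulEquiv.orderOf_eq (MulAut.conj g) x

theorem centralizer_conj_le {t m : G} {M : Subgroup G} (hm : m ∈ M)
    (h : centralizer ({m * t * m⁻¹} : Set G) ≤ M) : centralizer ({t} : Set G) ≤ M := by
  intro c hc
  have hc' : c * t = t * c := mem_centralizer_singleton_iff.1 hc
  have h1 : m * c * m⁻¹ ∈ M := h (mem_centralizer_singleton_iff.2 (by
    calc m * c * m⁻¹ * (m * t * m⁻¹) = m * (c * t) * m⁻¹ := by group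
      _ = m * (t * c) * m⁻¹ := by rw [hc']
      _ = m * t * m⁻¹ * (m * c * m⁻¹) := by group))
  have h2 := mul_mem (mul_mem (inv_mem hm) h1) hm
  simpa [mul_assoc] using h2

theorem cores_trivial
    (hodd : ∀ (X : Type u) [Group X] [Finite X], Odd (Nat.card X) → Group.IsSolvable X)
    (hSFT : ∀ θ : G → Subgroup G, H7.CompleteSolvableFunctors 2 θ)
    (h1221 : ∀ (X : Type u) [Group X] [Finite X] (H : Subgroup X), Cfsg.IsStronglyEmbedded H →
      (Cfsg.oddCore ↥H).map H.subtype ≤ Cfsg.oddCore X)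
    (hcons : ∀ z : G, orderOf z = 2 → Cfsg.IsPConstrained 2 ↥(centralizer ({z} : Set G)))
    (hO : Cfsg.oddCore G = ⊥) (S : Sylow 2 G) {U : Subgroup G} (hUS : U ≤ (S : Subgroup G))
    (hSU : (S : Subgroup G) ≤ normalizer (U : Set G)) (hU : Cfsg.IsElementaryAbelian 2 U)
    (h8 : 8 ≤ Nat.card U) :
    ∀ t : G, orderOf t = 2 → Cfsg.centralizerPPrimeCore 2 t = ⊥ := by
  haveI := Fact.mk Nat.prime_two
  obtain ⟨W, hWodd, hW⟩ := H80.exists_signalizer hodd hSFT hcons S.2 hSU hU h8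
  have hAS := fun {x : G} (hx : x ∈ (S : Subgroup G)) (h2 : orderOf x = 2) =>
    exists_elemAb_in hUS hSU hU h8 hx h2
  have hθW : ∀ x ∈ (S : Subgroup G), orderOf x = 2 → Cfsg.centralizerPPrimeCore 2 x ≤ W := by
    intro x hx h2
    obtain ⟨A, hA, hA8, hxA, hAS'⟩ := hAS hx h2
    rw [(hW A hAS' (not_pRankLE_one hA (by omega))).1]
    exact le_iSup (fun b : {b : G // b ∈ A ∧ b ≠ 1} => Cfsg.centralizerPPrimeCore 2 (b : G))
      ⟨x, hxA, fun e => by simp [e] at h2⟩
  have hzp : ∀ {x : G}, orderOf x = 2 → IsPGroup 2 (Subgroup.zpowers x) := fun {x} hx =>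
    IsPGroup.of_card (n := 1) (by rw [Nat.card_zpowers, hx, pow_one])
  by_cases hWbot : W = ⊥
  · intro t ht
    obtain ⟨g, hg⟩ := H86.exists_conj_le_sylow S (hzp ht)
    have := le_bot_iff.1 (hWbot ▸ hθW _ (hg t (Subgroup.mem_zpowers t)) (by rw [orderOf_conj, ht]))
    have h' := centralizerPPrimeCore_conj_eq_bot g⁻¹ this
    simpa [mul_assoc] using h'
  exfalso
  set M := normalizer (W : Set G) with hM
  have hSrank : ¬ Cfsg.PRankLE 2 1 ↥(S : Subgroup G) :=
    Cfsg.Agent.H9.not_pRankLE_of_elemAb hU hUS (by rw [pow_one]; omega)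
  have hSM : (S : Subgroup G) ≤ M := le_normalizer.trans (hW _ le_rfl hSrank).2
  have hWM : W ≤ M := le_normalizer
  have hSin : H82.SylowIn 2 (S : Subgroup G) M :=
    (H82.sylow_sylowIn_top S).of_le hSM le_top
  have hne : M ≠ ⊤ := by
    intro e
    haveI : W.Normal := Subgroup.normalizer_eq_top_iff.1 e
    exact hWbot (le_bot_iff.1 (hO ▸ H1.le_pPrimeCore (Nat.coprime_two_right.2 hWodd)))
  -- four-groups control membership in `M`
  have hKL : ∀ (B : Subgroup G) (g : G), Cfsg.IsElementaryAbelian 2 B → 4 ≤ Nat.card B → B ≤ M →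
      B.map (MulAut.conj g).toMonoidHom ≤ M → g ∈ M := by
    intro B g hB h4 hBM hgBM
    have hBp : IsPGroup 2 B := H7.elemAb_isPGroup hB
    obtain ⟨m, hm, hm'⟩ := hSin.exists_conj_le hBp hBM
    obtain ⟨n, hn, hn'⟩ := hSin.exists_conj_le (hBp.map _) hgBM
    set h := n * g * m⁻¹ with hh
    set B₁ := B.map (MulAut.conj m).toMonoidHom with hB₁
    have e1 : B₁.map (MulAut.conj h).toMonoidHom ≤ (S : Subgroup G) := by
      rw [hB₁, ← H82.map_conj_mul, show h * m = n * g by simp [hh, mul_assoc], H82.map_conj_mul]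
      exact hn'
    have hB₁e : Cfsg.IsElementaryAbelian 2 B₁ := Cfsg.Agent.H9.elemAb_map _ hB
    have hB₁4 : 4 ≤ Nat.card B₁ := by rw [hB₁, H82.card_map_conj]; exact h4
    have hW1 := (hW B₁ hm' (not_pRankLE_one hB₁e hB₁4)).1
    have hW2 := (hW _ e1 (not_pRankLE_one (Cfsg.Agent.H9.elemAb_map _ hB₁e)
      (by rw [H82.card_map_conj]; exact hB₁4))).1
    have hhM : h ∈ M := by
      refine H82.mem_normalizer_of_map_le ?_
      conv_lhs => rw [hW1, Subgroup.map_iSup]
      refine iSup_le fun b => ?_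
      rw [← H7.centralizerPPrimeCore_conj_eq]
      conv_rhs => rw [hW2]
      exact le_iSup_of_le (ι := {c : G // c ∈ B₁.map (MulAut.conj h).toMonoidHom ∧ c ≠ 1})
        ⟨h * b * h⁻¹, ⟨b, b.2.1, rfl⟩, by simpa using b.2.2⟩ le_rfl
    have hg' := mul_mem (mul_mem (inv_mem hn) hhM) hm
    simpa [hh, mul_assoc] using hg'
  -- involution centralizers lie in `M`
  have hCS : ∀ t ∈ (S : Subgroup G), orderOf t = 2 → centralizer ({t} : Set G) ≤ M := by
    intro t htS ht
    obtain ⟨A, hA, hA8, htA, hA'⟩ := hAS htS ht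
    set X := centralizer ({t} : Set G) with hX
    have hAX : A ≤ X := fun a ha =>
      mem_centralizer_singleton_iff.2 (H7.comm_of_isElementaryAbelian hA a ha t htA)
    have hAp : IsPGroup 2 A := H7.elemAb_isPGroup hA
    obtain ⟨P, hP, hAP⟩ := H82.exists_sylowIn_ge hAp (le_inf hAX (hA'.trans hSM))
    have hPX : H82.SylowIn 2 P X := by
      obtain ⟨R, hR, hPR⟩ := H82.exists_sylowIn_ge hP.isPGroup (hP.le.trans inf_le_left)
      rcases eq_or_lt_of_le hPR with e | hlt
      · exact e ▸ hR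
      exfalso
      have hgt := H82.exists_normalizer_gt hR.isPGroup hlt
      refine hgt.ne' (hP.eq_of_le (hR.isPGroup.to_le inf_le_left) ?_ hgt.le)
      intro g hg
      refine ⟨hR.le (Subgroup.mem_inf.1 hg).1, ?_⟩
      have hPM : P ≤ M := hP.le.trans inf_le_right
      refine hKL A g hA (by omega) (hA'.trans hSM) ((Subgroup.map_mono hAP).trans ?_)
      rw [H82.mem_normalizer_iff_map.1 (Subgroup.mem_inf.1 hg).2]
      exact hPM
    obtain ⟨P', hP'⟩ := hPX.exists_sylow
    have hPP : ∀ {y : X}, y ∈ (P' : Subgroup X) → (y : G) ∈ P := fun {y} hy => hP' ▸ ⟨y, hy, rfl⟩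
    have htX : t ∈ X := mem_centralizer_singleton_iff.2 rfl
    have hcenter : (⟨t, htX⟩ : X) ∈ Subgroup.center X := Subgroup.mem_center_iff.2 fun c =>
      Subtype.ext (mem_centralizer_singleton_iff.1 c.2)
    have hAsub : A.subgroupOf X ≤ (P' : Subgroup X) := by
      intro a ha
      have h1 : (a : G) ∈ (P' : Subgroup X).map X.subtype := hP'.symm ▸ hAP ha
      obtain ⟨y, hy, hya⟩ := h1
      exact (Subtype.ext hya : y = a) ▸ hy
    have htop := eq_top_of_control (hcons t ht) P' (t := ⟨t, htX⟩)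
      (by rw [Subgroup.orderOf_mk]; exact ht) hcenter (A := A.subgroupOf X)
      (H7.isElementaryAbelian_of_comm
        (fun a ha b hb => Subtype.ext (H7.comm_of_isElementaryAbelian hA a ha b hb))
        fun a ha => Subtype.ext (hA.2 a ha))
      (by rw [Cfsg.Comp.card_subgroupOf hAX]; exact hA8) hAsub htA (M.subgroupOf X)
      (Subgroup.map_le_iff_le_comap.1 ((hθW t htS ht).trans hWM))
      (fun y hy => (hP.le (hPP hy)).2)
      (fun B g hB h4 hBP hgB => by
        refine hKL (B.map X.subtype) g (Cfsg.Agent.H9.elemAb_map _ hB)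
          (by rw [Cfsg.Comp.card_map_subtype]; exact h4) ?_ ?_
        · rintro _ ⟨y, hy, rfl⟩
          exact (hP.le (hPP (hBP hy))).2
        · rintro _ ⟨_, ⟨y, hy, rfl⟩, rfl⟩
          exact (hP.le (hPP (hgB ⟨y, hy, rfl⟩))).2)
    exact Subgroup.subgroupOf_eq_top.1 htop
  have hC : ∀ t ∈ M, orderOf t = 2 → centralizer ({t} : Set G) ≤ M := by
    intro t htM ht
    obtain ⟨m, hm, hm'⟩ := hSin.exists_conj_le (hzp ht) (Subgroup.zpowers_le.2 htM)
    exact centralizer_conj_le hm (hCS _ (hm' ⟨t, Subgroup.mem_zpowers t, rfl⟩)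
      (by rw [orderOf_conj, ht]))
  have heven : Even (Nat.card M) := by
    refine even_iff_two_dvd.2 (dvd_trans ?_ (Subgroup.card_dvd_of_le (hUS.trans hSM)))
    obtain ⟨k, hk⟩ := IsPGroup.iff_card.mp (H7.elemAb_isPGroup hU)
    rcases k with _ | k
    · rw [hk] at h8; simp at h8
    · rw [hk, pow_succ']; exact dvd_mul_right 2 _
  have hSE : Cfsg.IsStronglyEmbedded M := by
    refine (H65.se_iff hne heven).2 fun t g ht htM hg => ?_
    obtain ⟨m, hm, hm'⟩ := hSin.exists_conj_le (hzp ht) (Subgroup.zpowers_le.2 htM)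
    obtain ⟨A, hA, hA8, hxA, hA'⟩ :=
      hAS (hm' ⟨t, Subgroup.mem_zpowers t, rfl⟩) (by rw [MulEquiv.coe_toMonoidHom]; exact (orderOf_conj m t).trans ht)
    set B := A.map (MulAut.conj m⁻¹).toMonoidHom with hB
    have hBM : B ≤ M := H82.map_conj_le_of_mem (inv_mem hm) (hA'.trans hSM)
    have htB : t ∈ B := by
      rw [hB, H82.mem_map_conj_iff]
      simpa [mul_assoc] using hxA
    have hBe : Cfsg.IsElementaryAbelian 2 B := Cfsg.Agent.H9.elemAb_map _ hA
    have hgB : B.map (MulAut.conj g⁻¹).toMonoidHom ≤ M := by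
      refine le_trans ?_ (hC _ hg (by
        have := orderOf_conj g⁻¹ t
        rw [inv_inv] at this
        exact this.trans ht))
      rintro _ ⟨b, hb, rfl⟩
      refine mem_centralizer_singleton_iff.2 ?_
      have hc := H7.comm_of_isElementaryAbelian hBe b hb t htB
      show g⁻¹ * b * g⁻¹⁻¹ * (g⁻¹ * t * g) = g⁻¹ * t * g * (g⁻¹ * b * g⁻¹⁻¹)
      calc g⁻¹ * b * g⁻¹⁻¹ * (g⁻¹ * t * g) = g⁻¹ * (b * t) * g := by group
        _ = g⁻¹ * (t * b) * g := by rw [hc]
        _ = g⁻¹ * t * g * (g⁻¹ * b * g⁻¹⁻¹) := by group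
    have := hKL B g⁻¹ hBe (by rw [hB, H82.card_map_conj]; omega) hBM hgB
    simpa using inv_mem this
  haveI : (W.subgroupOf M).Normal := Subgroup.normal_in_normalizer
  have hWO : W ≤ (Cfsg.oddCore ↥M).map M.subtype := by
    rw [← Subgroup.map_subgroupOf_eq_of_le hWM]
    exact Subgroup.map_mono (H1.le_pPrimeCore (Nat.coprime_two_right.2
      (by rw [Cfsg.Comp.card_subgroupOf hWM]; exact hWodd)))
  exact hWbot (le_bot_iff.1 (hO ▸ hWO.trans (h1221 G M hSE)))

end H9.CoresTrivial
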